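import Groth.Agent.FlatMorWeightLen.Field
import Groth.Agent.Props12.Stalks
import Groth.Agent.Et18.EtaleLocalRing
import Groth.Agent.FlatLocal.StalkCrit
import Groth.Agent.FlatMorWeight.GeomPoints
import Mathlib.FieldTheory.PurelyInseparable.Tower
import Mathlib.AlgebraicGeometry.Artinian

/-!
# The weighting of a flat locally quasi-finite morphism
-/

set_option autoImplicit false
set_option backward.isDefEq.respectTransparency false
set_option linter.style.haveILetI false

universe u

open CategoryTheory CategoryTheory.Limits AlgebraicGeometry IsLocalRing Groth.Agent.CycLib28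

namespace Groth.Agent.FlatMorWeightLen

variable {X Y Z : Scheme.{u}}

/-- The inseparable degree of the residue extension. -/
noncomputable def insDeg (f : X ⟶ Y) (x : X) : ℕ :=
  letI := (f.residueFieldMap x).hom.toAlgebra
  Field.finInsepDegree (Y.residueField (f x)) (X.residueField x)

theorem insDeg_comp (f : X ⟶ Y) (g : Y ⟶ Z) (x : X)
    (hg : letI := (g.residueFieldMap (f x)).hom.toAlgebra
      Algebra.IsAlgebraic (Z.residueField (g (f x))) (Y.residueField (f x))) :
    insDeg (f ≫ g) x = insDeg g (f x) * insDeg f x := by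
  simp only [insDeg]
  letI := (f.residueFieldMap x).hom.toAlgebra
  letI := (g.residueFieldMap (f x)).hom.toAlgebra
  letI : Algebra (Z.residueField (g (f x))) (X.residueField x) :=
    ((f.residueFieldMap x).hom.comp (g.residueFieldMap (f x)).hom).toAlgebra
  haveI : IsScalarTower (Z.residueField (g (f x))) (Y.residueField (f x)) (X.residueField x) :=
    IsScalarTower.of_algebraMap_eq fun _ ↦ rfl
  haveI := hg
  have h : ((f ≫ g).residueFieldMap x).hom.toAlgebra =
      ((f.residueFieldMap x).hom.comp (g.residueFieldMap (f x)).hom).toAlgebra :=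
    congrArg RingHom.toAlgebra (congrArg CommRingCat.Hom.hom (Scheme.residueFieldMap_comp f g x))
  exact (congrArg (fun a : Algebra (Z.residueField (g (f x))) (X.residueField x) =>
      @Field.finInsepDegree (Z.residueField (g (f x))) (X.residueField x) _ _ a) h).trans
    (Field.finInsepDegree_mul_finInsepDegree_of_isAlgebraic (Z.residueField (g (f x)))
      (Y.residueField (f x)) (X.residueField x)).symm

theorem isSeparable_of_etale (g : X ⟶ Y) [Etale g] (x : X) :
    letI := (g.residueFieldMap x).hom.toAlgebra
    Algebra.IsSeparable (Y.residueField (g x)) (X.residueField x) :=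
  ((FlatLocal.formallyUnramified_stalkMap_iff g x).1 (FormallyUnramified.stalkMap g x)).1

theorem insDeg_etale (g : X ⟶ Y) [Etale g] (x : X) : insDeg g x = 1 := by
  letI := (g.residueFieldMap x).hom.toAlgebra
  haveI := isSeparable_of_etale g x
  exact Algebra.IsSeparable.finInsepDegree_eq _ _

theorem lenFibre_eq_one (g : X ⟶ Y) (x : X)
    (h : (maximalIdeal (Y.presheaf.stalk (g x))).map (g.stalkMap x).hom = maximalIdeal (X.presheaf.stalk x)) :
    lenFibre g x = 1 := by
  rw [lenFibre, h]
  haveI : IsSimpleModule (X.presheaf.stalk x) (X.presheaf.stalk x ⧸ maximalIdeal (X.presheaf.stalk x)) :=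
    isSimpleModule_iff_quot_maximal.2 ⟨_, maximalIdeal.isMaximal _, ⟨LinearEquiv.refl _ _⟩⟩
  exact Module.length_eq_one _ _

theorem lenFibre_etale (g : X ⟶ Y) [Etale g] (x : X) : lenFibre g x = 1 :=
  lenFibre_eq_one g x (Et18.stalkMap_flat_and_map_maximalIdeal g x).2

theorem maximalIdeal_stalk_spec_field (k : Type u) [Field k] (y : ↥(Spec (CommRingCat.of k))) :
    maximalIdeal ((Spec (CommRingCat.of k)).presheaf.stalk y) = ⊥ := by
  letI : Algebra k ((Spec (CommRingCat.of k)).presheaf.stalk y) := StructureSheaf.stalkAlgebra _ y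
  haveI hy : IsLocalization.AtPrime ((Spec (CommRingCat.of k)).presheaf.stalk y) y.asIdeal :=
    StructureSheaf.IsLocalization.to_stalk _ y
  rw [← IsLocalization.AtPrime.map_eq_maximalIdeal y.asIdeal ((Spec (CommRingCat.of k)).presheaf.stalk y),
    Ideal.eq_bot_of_prime y.asIdeal, Ideal.map_bot]

theorem lenFibre_fromSpecResidueField (v : Y) (p : ↥(Spec (Y.residueField v))) :
    lenFibre (Y.fromSpecResidueField v) p = 1 := by
  refine lenFibre_eq_one _ p (le_antisymm
    (((IsLocalRing.local_hom_TFAE ((Y.fromSpecResidueField v).stalkMap p).hom).out 0 2 rfl rfl).mp inferInstance) ?_)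
  exact (maximalIdeal_stalk_spec_field (Y.residueField v) p).le.trans bot_le

/-- Lengths can be read on the fibre. -/
theorem lenFibre_fiberι (π : X ⟶ Y) (v : Y) {F : Scheme.{u}} (e : F ⟶ π.fiber v) [IsIso e] (z : F) :
    lenFibre ((e ≫ π.fiberι v) ≫ π) z = lenFibre π ((e ≫ π.fiberι v) z) := by
  let a := e ≫ π.fiberι v
  obtain ⟨hs, hk⟩ := Props12.stalkMap_fiberι π v (e z)
  have hse : Function.Bijective (e.stalkMap z).hom :=
    (ConcreteCategory.isIso_iff_bijective (e.stalkMap z)).1 inferInstance
  have hcomp : (a.stalkMap z).hom = (e.stalkMap z).hom.comp ((π.fiberι v).stalkMap (e z)).hom := by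
    show ((e ≫ π.fiberι v).stalkMap z).hom = _
    rw [Scheme.Hom.stalkMap_comp]; rfl
  let O := X.presheaf.stalk (a z)
  let J : Ideal O := Ideal.map (π.stalkMap (a z)).hom (maximalIdeal (Y.presheaf.stalk (π (a z))))
  have hker : RingHom.ker (a.stalkMap z).hom = J := by
    rw [hcomp, RingHom.ker_comp_of_injective _ hse.1]
    exact hk
  have hsurj : Function.Surjective (a.stalkMap z).hom := by
    rw [hcomp]; exact hse.2.comp hs
  have h0 : Ideal.map ((a ≫ π).stalkMap z).hom (maximalIdeal (Y.presheaf.stalk ((a ≫ π) z))) = ⊥ := by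
    rw [Scheme.Hom.stalkMap_comp]
    show Ideal.map ((a.stalkMap z).hom.comp (π.stalkMap (a z)).hom) (maximalIdeal (Y.presheaf.stalk (π (a z)))) = ⊥
    rw [← Ideal.map_map]
    exact (Ideal.map_eq_bot_iff_le_ker _).2 hker.ge
  show Module.length (F.presheaf.stalk z) (F.presheaf.stalk z ⧸ Ideal.map ((a ≫ π).stalkMap z).hom
    (maximalIdeal (Y.presheaf.stalk ((a ≫ π) z)))) = Module.length O (O ⧸ J)
  rw [h0, (Submodule.quotEquivOfEqBot (⊥ : Submodule (F.presheaf.stalk z) (F.presheaf.stalk z)) rfl).length_eq,
    Module.length_eq_of_surjective (R := O ⧸ J) (S := O) (M := O ⧸ J) Ideal.Quotient.mk_surjective]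
  exact (length_self_congr ((Ideal.quotEquivOfEq hker.symm).trans (RingHom.quotientKerEquivOfSurjective hsurj))).symm

theorem lenFibre_fiberι_ne_top (f : X ⟶ Y) [LocallyQuasiFinite f] [LocallyOfFiniteType f] (y : Y)
    (z : f.fiber y) : lenFibre f (f.fiberι y z) ≠ ⊤ := by
  haveI : IsLocallyArtinian (f.fiber y) := inferInstance
  obtain ⟨U, hU, hz, -⟩ := exists_isAffineOpen_mem_and_subset (x := z) (U := (⊤ : (f.fiber y).Opens)) trivial
  haveI := hU.isLocalization_stalk ⟨z, hz⟩
  letI := TopCat.Presheaf.algebra_section_stalk (f.fiber y).presheaf (⟨z, hz⟩ : U)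
  haveI : IsArtinianRing Γ(f.fiber y, U) := IsLocallyArtinian.isArtinianRing_presheaf_obj ⟨U, hU⟩
  haveI : IsArtinianRing ((f.fiber y).presheaf.stalk z) :=
    (IsArtinianRing.localization_surjective (hU.primeIdealOf ⟨z, hz⟩).asIdeal.primeCompl
      ((f.fiber y).presheaf.stalk z)).isArtinianRing
  have h := lenFibre_fiberι f y (𝟙 _) z
  rw [Category.id_comp] at h
  rw [← h, lenFibre]
  exact Module.length_ne_top

theorem isFiniteLength_fibre (f : X ⟶ Y) [LocallyQuasiFinite f] [LocallyOfFiniteType f] (x : X) :
    lenFibre f x ≠ ⊤ := by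
  obtain ⟨z, hz⟩ : x ∈ Set.range (f.fiberι (f x)) := by rw [f.range_fiberι]; rfl
  exact hz ▸ lenFibre_fiberι_ne_top f (f x) z

/-- The degree of a finite flat morphism is the sum of lengths times residue degrees. -/
theorem finrank_eq_sum_fibre (π : X ⟶ Y) [Flat π] [IsFinite π] (v : Y) :
    ((Scheme.Hom.finrank π v : ℕ) : ℕ∞) =
      ∑ᶠ u : {u : X // π u = v}, (π.residueDegree u.1 : ℕ∞) * lenFibre π u.1 := by
  let κ := Y.residueField v
  let q := π.fiberToSpecResidueField v
  haveI : IsFinite q := MorphismProperty.pullback_snd (P := @IsFinite) π _ inferInstance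
  haveI : IsAffine (π.fiber v) := isAffine_of_isAffineHom q
  let C : Type u := Γ(π.fiber v, ⊤)
  let e : Spec (CommRingCat.of C) ⟶ π.fiber v := (π.fiber v).isoSpec.inv
  let α : κ ⟶ CommRingCat.of C := Spec.preimage (e ≫ q)
  letI : Algebra κ C := α.hom.toAlgebra
  have hα : str κ C = e ≫ q := Spec.map_preimage _
  haveI : IsFinite (str κ C) := by rw [hα]; infer_instance
  haveI : Module.Finite κ C := RingHom.finite_algebraMap.1 ((IsFinite.SpecMap_iff _).1 ‹IsFinite (str κ C)›)
  haveI : Flat (str κ C) := by
    rw [HasRingHomProperty.Spec_iff (P := @Flat)]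
    exact RingHom.flat_algebraMap_iff.2 inferInstance
  let a := e ≫ π.fiberι v
  let j := Y.fromSpecResidueField v
  have hw : str κ C ≫ j = a ≫ π := by
    rw [hα, Category.assoc, Category.assoc]
    exact congrArg (e ≫ ·) pullback.condition.symm
  let p : ↥(Spec (Y.residueField v)) := IsLocalRing.closedPoint (Y.residueField v)
  have hq : Scheme.Hom.finrank (str κ C) p = Scheme.Hom.finrank π v := by
    rw [hα, Scheme.Hom.finrank_comp_left_of_isIso]
    exact (Scheme.Hom.finrank_of_isPullback (π.fiberι v) q π j (IsPullback.of_hasPullback π j) p).trans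
      (congrArg π.finrank (Scheme.fromSpecResidueField_apply _ p))
  rw [← hq, finrank_str_eq_sum]
  let E : ↥(Spec (CommRingCat.of C)) ≃ {u : X // π u = v} :=
    ((π.fiber v).isoSpec.symm.hom.homeomorph.trans (π.fiberHomeo v)).toEquiv
  rw [← finsum_comp_equiv E]
  refine finsum_congr fun z => ?_
  have hEz : (E z).1 = a z := rfl
  rw [hEz]
  have hdeg : (str κ C).residueDegree z = π.residueDegree (a z) := by
    have h1 : (str κ C ≫ j).residueDegree z = (a ≫ π).residueDegree z := by rw [hw]
    rw [residueDegree_comp, residueDegree_comp, residueDegree_preimmersion j, residueDegree_preimmersion a,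
      one_mul, mul_one] at h1
    exact h1
  have hlen : lenFibre (str κ C) z = lenFibre π (a z) := by
    rw [← lenFibre_fiberι π v e z, ← hw, lenFibre_comp, lenFibre_fromSpecResidueField, one_mul]
  rw [hdeg, hlen]

/-- The weight function. -/
noncomputable def weight (f : X ⟶ Y) (x : X) : ℤ := ((lenFibre f x).toNat : ℤ) * (insDeg f x : ℤ)

theorem isWeighting_weight (f : X ⟶ Y) [LocallyQuasiFinite f] [Flat f] [LocallyOfFinitePresentation f] :
    MoreMor.IsWeighting f (weight f) := by
  intro V g hg U hfin
  haveI := hg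
  haveI := hfin
  let π : U.toScheme ⟶ V := U.ι ≫ pullback.snd f g
  let a : U.toScheme ⟶ X := U.ι ≫ pullback.fst f g
  haveI : Etale (pullback.fst f g) := MorphismProperty.pullback_fst (P := @Etale) f g hg
  haveI : Etale a := inferInstanceAs (Etale (U.ι ≫ pullback.fst f g))
  haveI : Flat π := inferInstanceAs (Flat (U.ι ≫ pullback.snd f g))
  haveI : LocallyOfFinitePresentation π := inferInstanceAs (LocallyOfFinitePresentation (U.ι ≫ pullback.snd f g))
  haveI : IsFinite π := hfin
  have hsq : π ≫ g = a ≫ f := by simp only [π, a, Category.assoc, pullback.condition]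
  have key : ∀ v, MoreMor.fibreIntegral π (fun u => weight f (a u)) v = (Scheme.Hom.finrank π v : ℤ) := by
    intro v
    haveI : Finite {u : U.toScheme // π u = v} := (Scheme.Hom.finite_preimage_singleton π v).to_subtype
    haveI := Fintype.ofFinite {u : U.toScheme // π u = v}
    have hsum := finrank_eq_sum_fibre π v
    rw [finsum_eq_sum_of_fintype] at hsum
    have hlen : ∀ u : U.toScheme, lenFibre π u = lenFibre f (a u) := fun u => by
      have h1 : lenFibre (π ≫ g) u = lenFibre (a ≫ f) u := by rw [hsq]
      rwa [lenFibre_comp π g, lenFibre_comp a f, lenFibre_etale g, lenFibre_etale a, one_mul, mul_one] at h1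
    have hins : ∀ u : U.toScheme, insDeg π u = insDeg f (a u) := fun u => by
      have h1 : insDeg (π ≫ g) u = insDeg (a ≫ f) u := by rw [hsq]
      rwa [insDeg_comp π g u (by letI := (g.residueFieldMap (π u)).hom.toAlgebra
                                 haveI := isSeparable_of_etale g (π u)
                                 infer_instance),
        insDeg_comp a f u (by letI := (f.residueFieldMap (a u)).hom.toAlgebra
                              haveI : Module.Finite (Y.residueField (f (a u))) (X.residueField (a u)) :=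
                                FlatMorWeight.residueFieldMap_finite f (a u)
                              infer_instance),
        insDeg_etale g, insDeg_etale a, one_mul, mul_one] at h1
    have hnat : Scheme.Hom.finrank π v =
        ∑ u : {u : U.toScheme // π u = v}, π.residueDegree u.1 * (lenFibre π u.1).toNat := by
      have h2 : ∀ u : {u : U.toScheme // π u = v}, lenFibre π u.1 = ((lenFibre π u.1).toNat : ℕ∞) := fun u =>
        (ENat.coe_toNat (hlen u.1 ▸ isFiniteLength_fibre f (a u.1))).symm
      rw [Finset.sum_congr rfl fun u _ => congrArg ((π.residueDegree u.1 : ℕ∞) * ·) (h2 u)] at hsum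
      exact_mod_cast hsum
    rw [MoreMor.fibreIntegral, finsum_eq_sum_of_fintype, hnat, Nat.cast_sum]
    refine Finset.sum_congr rfl fun u _ => ?_
    letI := (π.residueFieldMap u.1).hom.toAlgebra
    have hd : π.residueDegree u.1 =
        Field.finSepDegree (V.residueField (π u.1)) (U.toScheme.residueField u.1) * insDeg π u.1 :=
      (Field.finSepDegree_mul_finInsepDegree _ _).symm
    rw [hd, weight, ← hlen, ← hins]
    push_cast
    ring
  show IsLocallyConstant (MoreMor.fibreIntegral π (fun u => weight f (a u)))
  rw [funext key]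
  exact (Scheme.Hom.isLocallyConstant_finrank π).comp _

theorem weight_pos (f : X ⟶ Y) [LocallyQuasiFinite f] [LocallyOfFiniteType f] (x : X) : 0 < weight f x := by
  have h1 : lenFibre f x ≠ 0 := by
    rw [lenFibre, ne_eq, Module.length_eq_zero_iff, not_subsingleton_iff_nontrivial]
    refine Ideal.Quotient.nontrivial_iff.2 fun h => (maximalIdeal.isMaximal (X.presheaf.stalk x)).ne_top (top_le_iff.1 (h ▸ ?_))
    exact ((IsLocalRing.local_hom_TFAE (f.stalkMap x).hom).out 0 2 rfl rfl).mp inferInstance
  have h2 : 0 < (lenFibre f x).toNat := Nat.pos_of_ne_zero fun h =>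
    (ENat.toNat_eq_zero.1 h).elim h1 (isFiniteLength_fibre f x)
  have h3 : 0 < insDeg f x := by
    letI := (f.residueFieldMap x).hom.toAlgebra
    haveI : Module.Finite (Y.residueField (f x)) (X.residueField x) := FlatMorWeight.residueFieldMap_finite f x
    refine Nat.pos_of_ne_zero fun h0 => ?_
    have := Field.finSepDegree_mul_finInsepDegree (Y.residueField (f x)) (X.residueField x)
    rw [show Field.finInsepDegree (Y.residueField (f x)) (X.residueField x) = 0 from h0, mul_zero] at this
    exact (Module.finrank_pos (R := Y.residueField (f x)) (M := X.residueField x)).ne this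
  exact mul_pos (by exact_mod_cast h2) (by exact_mod_cast h3)

end Groth.Agent.FlatMorWeightLen
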