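import Groth.Agent.CycLib28.Flat
import Groth.Agent.CycLib28.Push
import Groth.Agent.CycLib28.PushFinite
import Groth.Agent.CycLib28.PushZero
import Groth.Agent.S6320
import Mathlib.AlgebraicGeometry.Morphisms.FlatRank

/-!
# Degree of a finite scheme over a field as a sum of lengths
-/

set_option autoImplicit false
set_option backward.isDefEq.respectTransparency false
set_option linter.style.haveILetI false

universe u

open CategoryTheory AlgebraicGeometry IsLocalRing Groth.Agent.CycLib28

namespace Groth.Agent.FlatMorWeightLen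

theorem length_self_congr {R S : Type u} [CommRing R] [CommRing S] (e : R ≃+* S) :
    Module.length R R = Module.length S S := by
  letI := e.toRingHom.toAlgebra
  let l : R ≃ₗ[R] S := LinearEquiv.ofBijective (Algebra.linearMap R S) e.bijective
  rw [l.length_eq]
  exact Module.length_eq_of_surjective (R := S) (S := R) (M := S) e.surjective

theorem finrank_eq_sum {k C : Type u} [Field k] [CommRing C] [Algebra k C] [Module.Finite k C] :
    (Module.finrank k C : ℕ∞) = ∑ᶠ n : MaximalSpectrum C, (Module.finrank k (C ⧸ n.asIdeal) : ℕ∞) *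
      Module.length (Localization.AtPrime n.asIdeal) (Localization.AtPrime n.asIdeal) := by
  haveI : IsArtinianRing C := IsArtinianRing.of_finite k C
  have hover : ∀ n : MaximalSpectrum C, n.asIdeal.comap (algebraMap k C) = maximalIdeal k := fun n =>
    IsLocalRing.eq_maximalIdeal ((Ideal.eq_bot_of_prime (n.asIdeal.comap (algebraMap k C))) ▸ Ideal.bot_isMaximal)
  have hfl : IsFiniteLength C C :=
    isFiniteLength_iff_isNoetherian_isArtinian.2 ⟨inferInstance, inferInstance⟩
  have h := Groth.Agent.S6320.result hover (fun n => inferInstance) C hfl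
  rw [Module.length_eq_finrank] at h
  rw [h]
  refine finsum_congr fun n => ?_
  congr 2
  · exact Algebra.finrank_eq_of_equiv_equiv
      ((Ideal.quotEquivOfEq ((hover n).trans (IsLocalRing.maximalIdeal_eq_bot))).trans (RingEquiv.quotientBot k))
      (RingEquiv.refl _) (by
        ext a
        rfl)

variable {k C : Type u} [Field k] [CommRing C] [Algebra k C] [Module.Finite k C]

/-- The structure map of `Spec C` over the field. -/
noncomputable abbrev str (k C : Type u) [Field k] [CommRing C] [Algebra k C] :
    Spec (CommRingCat.of C) ⟶ Spec (CommRingCat.of k) :=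
  Spec.map (CommRingCat.ofHom (algebraMap k C))

omit [Module.Finite k C] in
theorem germ_str (z : ↥(Spec (CommRingCat.of C))) (a : k) :
    ((str k C).stalkMap z) ((Spec (CommRingCat.of k)).presheaf.germ ⊤ _ trivial
        ((Scheme.ΓSpecIso (CommRingCat.of k)).inv a)) =
      (Spec (CommRingCat.of C)).presheaf.germ ⊤ z trivial
        ((Scheme.ΓSpecIso (CommRingCat.of C)).inv (algebraMap k C a)) := by
  refine (Scheme.Hom.germ_stalkMap_apply (str k C) ⊤ z trivial _).trans ?_
  exact congrArg ((Spec (CommRingCat.of C)).presheaf.germ ⊤ z trivial)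
    (ConcreteCategory.congr_hom (Scheme.ΓSpecIso_inv_naturality (CommRingCat.ofHom (algebraMap k C))) a).symm

omit [Module.Finite k C] in
theorem lenFibre_str (z : ↥(Spec (CommRingCat.of C))) :
    lenFibre (str k C) z = Module.length (Localization.AtPrime z.asIdeal) (Localization.AtPrime z.asIdeal) := by
  let O := (Spec (CommRingCat.of C)).presheaf.stalk z
  let y := str k C z
  let Oy := (Spec (CommRingCat.of k)).presheaf.stalk y
  letI : Algebra k Oy := StructureSheaf.stalkAlgebra _ y
  haveI hy : IsLocalization.AtPrime Oy y.asIdeal := StructureSheaf.IsLocalization.to_stalk _ y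
  have hbot : maximalIdeal Oy = ⊥ := by
    rw [← IsLocalization.AtPrime.map_eq_maximalIdeal y.asIdeal Oy, Ideal.eq_bot_of_prime y.asIdeal, Ideal.map_bot]
  letI : Algebra C O := StructureSheaf.stalkAlgebra _ z
  haveI hz : IsLocalization.AtPrime O z.asIdeal := StructureSheaf.IsLocalization.to_stalk _ z
  show Module.length O (O ⧸ Ideal.map ((str k C).stalkMap z).hom (maximalIdeal Oy)) = _
  rw [hbot, Ideal.map_bot, (Submodule.quotEquivOfEqBot (⊥ : Submodule O O) rfl).length_eq]
  exact length_self_congr (IsLocalization.algEquiv z.asIdeal.primeCompl O (Localization.AtPrime z.asIdeal)).toRingEquiv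

theorem residueDegree_str (z : ↥(Spec (CommRingCat.of C))) [z.asIdeal.IsMaximal] :
    (str k C).residueDegree z = Module.finrank k (C ⧸ z.asIdeal) := by
  rw [← residueDegree_eq_finrank]
  let y := str k C z
  let O := (Spec (CommRingCat.of C)).presheaf.stalk z
  let Oy := (Spec (CommRingCat.of k)).presheaf.stalk y
  letI algk : Algebra k Oy := StructureSheaf.stalkAlgebra _ y
  haveI hy : IsLocalization.AtPrime Oy y.asIdeal := StructureSheaf.IsLocalization.to_stalk _ y
  letI algC : Algebra C O := StructureSheaf.stalkAlgebra _ z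
  haveI hz : IsLocalization.AtPrime O z.asIdeal := StructureSheaf.IsLocalization.to_stalk _ z
  letI : Algebra Oy O := ((str k C).stalkMap z).hom.toAlgebra
  haveI : IsLocalHom (algebraMap Oy O) := inferInstanceAs (IsLocalHom ((str k C).stalkMap z).hom)
  haveI : y.asIdeal.IsMaximal := Ideal.eq_bot_of_prime y.asIdeal ▸ Ideal.bot_isMaximal
  let ek : k →+* ResidueField Oy := (residue Oy).comp (algebraMap k Oy)
  have hek : Function.Bijective ek := by
    refine ⟨ek.injective, fun w => ?_⟩
    obtain ⟨t, ht⟩ := (IsLocalization.AtPrime.equivQuotMaximalIdeal y.asIdeal Oy).surjective w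
    obtain ⟨a, rfl⟩ := Ideal.Quotient.mk_surjective t
    exact ⟨a, ht⟩
  symm
  refine Algebra.finrank_eq_of_equiv_equiv (RingEquiv.ofBijective ek hek)
    (IsLocalization.AtPrime.equivQuotMaximalIdeal z.asIdeal O) ?_
  ext a
  show (algebraMap (ResidueField Oy) (ResidueField O)) (residue Oy (algebraMap k Oy a)) = residue O (algebraMap C O (algebraMap k C a))
  rw [IsLocalRing.ResidueField.algebraMap_residue]
  exact congrArg (residue O) (germ_str z a)

/-- The degree of a finite scheme over a field. -/
theorem finrank_str_eq_sum (p : PrimeSpectrum k) :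
    ((Scheme.Hom.finrank (str k C) p : ℕ) : ℕ∞) =
      ∑ᶠ z : ↥(Spec (CommRingCat.of C)), ((str k C).residueDegree z : ℕ∞) * lenFibre (str k C) z := by
  haveI : IsArtinianRing C := IsArtinianRing.of_finite k C
  have h1 : Scheme.Hom.finrank (str k C) p = Module.finrank k C := by
    rw [Scheme.Hom.finrank_SpecMap_eq_finrank]
    · show RingHom.finrank (algebraMap k C) p = _
      simp [Module.rankAtStalk_eq_finrank_of_free]
    · exact RingHom.finite_algebraMap.2 inferInstance
    · exact RingHom.flat_algebraMap_iff.2 inferInstance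
  rw [h1, finrank_eq_sum]
  let e : ↥(Spec (CommRingCat.of C)) ≃ MaximalSpectrum C :=
    { toFun := fun z => ⟨z.asIdeal, IsArtinianRing.isMaximal_of_isPrime _⟩
      invFun := fun n => ⟨n.asIdeal, n.isMaximal.isPrime⟩
      left_inv := fun z => rfl
      right_inv := fun n => rfl }
  rw [← finsum_comp_equiv e]
  refine finsum_congr fun z => ?_
  haveI : z.asIdeal.IsMaximal := IsArtinianRing.isMaximal_of_isPrime _
  rw [residueDegree_str, lenFibre_str]
  rfl

end Groth.Agent.FlatMorWeightLen
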